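/-
K₀ of finitely generated modules over a principal ideal domain.
-/
import Groth.Prelude.Def_KZero
import Mathlib.Algebra.Category.ModuleCat.Abelian
import Mathlib.Algebra.Homology.ShortComplex.ModuleCat
import Mathlib.LinearAlgebra.FreeModule.PID
import Mathlib.RingTheory.Finiteness.Basic
import Mathlib.LinearAlgebra.Dimension.Localization

universe u
open CategoryTheory

namespace Groth.Agent.K0PID

theorem bijective (A : Type u) [CommRing A] [IsDomain A] [IsPrincipalIdealRing A] :
    Function.Bijective (fun k : ℤ => k • KZero.clSub (fun M : ModuleCat.{u} A => Module.Finite A M) (ModuleCat.of A A)) := by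
  let P : ObjectProperty (ModuleCat.{u} A) := fun M => Module.Finite A M
  have hP : P (ModuleCat.of A A) := (inferInstance : Module.Finite A A)
  let g : FreeAbelianGroup (Subtype P) →+ ℤ := FreeAbelianGroup.lift fun M => (Module.finrank A M.1 : ℤ)
  have hg : KZero.relSub P ≤ g.ker := by
    refine (AddSubgroup.closure_le _).2 ?_
    rintro x ⟨S, h₁, h₂, h₃, hS, rfl⟩
    rw [SetLike.mem_coe, AddMonoidHom.mem_ker, map_sub, map_sub]
    simp only [g, FreeAbelianGroup.lift_apply_of]
    haveI : Module.Finite A S.X₁ := h₁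
    haveI : Module.Finite A S.X₂ := h₂
    haveI : Module.Finite A S.X₃ := h₃
    have hexact := (ShortComplex.ShortExact.moduleCat_exact_iff_function_exact S).1 hS.exact
    have h1 := LinearMap.finrank_range_of_inj (f := S.f.hom) hS.moduleCat_injective_f
    have h3 : Module.finrank A (S.X₂ ⧸ LinearMap.range S.f.hom) = Module.finrank A S.X₃ :=
      (LinearEquiv.ofEq _ _ hexact.linearMap_ker_eq.symm |> fun _ =>
        ((Submodule.quotEquivOfEq _ _ hexact.linearMap_ker_eq.symm).trans
          (S.g.hom.quotKerEquivOfSurjective hS.moduleCat_surjective_g)).finrank_eq)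
    have h2 := Submodule.finrank_quotient_add_finrank (LinearMap.range S.f.hom)
    omega
  let G : KZero.K0sub P →+ ℤ := QuotientAddGroup.lift _ g hg
  have hG : ∀ (M : ModuleCat.{u} A) (hM : P M), G (KZero.clSub P M) = Module.finrank A M := by
    intro M hM
    rw [KZero.clSub, dif_pos hM]
    erw [QuotientAddGroup.lift_mk]
    simp [g]
  have hrel : ∀ (L B C : ModuleCat.{u} A) (hL : P L) (hB : P B) (hC : P C) (f : L →ₗ[A] B) (k : B →ₗ[A] C),
      Function.Injective f → Function.Surjective k → Function.Exact f k →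
      KZero.clSub P B = KZero.clSub P L + KZero.clSub P C := by
    intro L B C hL hB hC f k hf hk hfk
    rw [KZero.clSub, dif_pos hB, KZero.clSub, dif_pos hL, KZero.clSub, dif_pos hC, ← QuotientAddGroup.mk_add,
      QuotientAddGroup.eq]
    have h := AddSubgroup.subset_closure (k := {x : FreeAbelianGroup (Subtype P) | ∃ (S : ShortComplex _) (h₁ : P S.X₁)
      (h₂ : P S.X₂) (h₃ : P S.X₃), S.ShortExact ∧ x = FreeAbelianGroup.of ⟨S.X₂, h₂⟩ - FreeAbelianGroup.of ⟨S.X₁, h₁⟩ -
        FreeAbelianGroup.of ⟨S.X₃, h₃⟩}) (show _ ∈ _ from ⟨ShortComplex.mk (ModuleCat.ofHom f) (ModuleCat.ofHom k)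
          (by ext x; exact (hfk (f x)).2 ⟨x, rfl⟩), hL, hB, hC,
        { exact := (ShortComplex.ShortExact.moduleCat_exact_iff_function_exact _).2 hfk
          mono_f := (ModuleCat.mono_iff_injective _).2 hf
          epi_g := (ModuleCat.epi_iff_surjective _).2 hk }, rfl⟩)
    have h2 := (KZero.relSub P).neg_mem h
    convert h2 using 1
    abel
  have hiso : ∀ (L B : ModuleCat.{u} A), P L → P B → (L ≃ₗ[A] B) → KZero.clSub P L = KZero.clSub P B := by
    intro L B hL hB e
    have h0 : P (ModuleCat.of A (Fin 0 → A)) := (inferInstance : Module.Finite A (Fin 0 → A))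
    have hz := hrel _ _ _ h0 h0 h0 LinearMap.id (0 : (Fin 0 → A) →ₗ[A] (Fin 0 → A)) Function.injective_id
      (fun c => ⟨0, Subsingleton.elim _ _⟩) (fun b => ⟨fun _ => ⟨b, rfl⟩, fun _ => rfl⟩)
    have := hrel L B (ModuleCat.of A (Fin 0 → A)) hL hB h0 e.toLinearMap 0 e.injective
      (fun c => ⟨0, Subsingleton.elim _ _⟩) (fun b => ⟨fun _ => ⟨e.symm b, by simp⟩, fun _ => rfl⟩)
    rw [this, left_eq_add.1 hz, add_zero]
  have hpi : ∀ n : ℕ, KZero.clSub P (ModuleCat.of A (Fin n → A)) = (n : ℤ) • KZero.clSub P (ModuleCat.of A A) := by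
    intro n
    induction n with
    | zero =>
      have h0 : P (ModuleCat.of A (Fin 0 → A)) := (inferInstance : Module.Finite A (Fin 0 → A))
      have hz := hrel _ _ _ h0 h0 h0 LinearMap.id (0 : (Fin 0 → A) →ₗ[A] (Fin 0 → A)) Function.injective_id
        (fun c => ⟨0, Subsingleton.elim _ _⟩) (fun b => ⟨fun _ => ⟨b, rfl⟩, fun _ => rfl⟩)
      rw [left_eq_add.1 hz, Nat.cast_zero, zero_smul]
    | succ n ih =>
      have := hrel (ModuleCat.of A (Fin n → A)) (ModuleCat.of A (Fin (n + 1) → A)) (ModuleCat.of A A)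
        (inferInstance : Module.Finite A (Fin n → A)) (inferInstance : Module.Finite A (Fin (n + 1) → A)) hP
        (LinearMap.pi fun i : Fin (n + 1) => Fin.cases 0 (fun j => LinearMap.proj j) i) (LinearMap.proj 0)
        (fun x y hxy => funext fun j => by simpa using congrFun hxy j.succ)
        (fun r => ⟨Pi.single 0 r, by simp⟩)
        (fun z => ⟨fun hz => ⟨fun j => z j.succ, funext fun i => Fin.cases (by simpa using hz.symm) (fun j => by simp) i⟩,
          fun ⟨x, hx⟩ => by rw [← hx]; simp⟩)
      rw [this, ih, Nat.cast_succ, add_smul, one_smul]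
  have hgen : ∀ x : KZero.K0sub P, ∃ k : ℤ, k • KZero.clSub P (ModuleCat.of A A) = x := by
    intro x
    induction x using QuotientAddGroup.induction_on with
    | H y =>
      induction y using FreeAbelianGroup.induction_on with
      | zero => exact ⟨0, by simp⟩
      | neg M h => obtain ⟨k, hk⟩ := h; exact ⟨-k, by rw [neg_smul, hk, QuotientAddGroup.mk_neg]⟩
      | add a b ha hb =>
        obtain ⟨k, hk⟩ := ha; obtain ⟨l, hl⟩ := hb
        exact ⟨k + l, by rw [add_smul, hk, hl, QuotientAddGroup.mk_add]⟩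
      | of M =>
        have hM : Module.Finite A M.1 := M.2
        obtain ⟨n, f, hf⟩ := Module.Finite.exists_fin' A M.1
        haveI : Module.Finite A (LinearMap.ker f) := Module.Finite.iff_fg.2 (IsNoetherian.noetherian _)
        haveI : Module.Free A (LinearMap.ker f) := inferInstance
        let e := (Module.finBasis A (LinearMap.ker f)).equivFun
        have h := hrel (ModuleCat.of A (LinearMap.ker f)) (ModuleCat.of A (Fin n → A)) M.1
          (inferInstance : Module.Finite A (LinearMap.ker f)) (inferInstance : Module.Finite A (Fin n → A)) M.2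
          (LinearMap.ker f).subtype f Subtype.val_injective hf (fun z => ⟨fun hz => ⟨⟨z, hz⟩, rfl⟩, fun ⟨x, hx⟩ => hx ▸ x.2⟩)
        rw [hpi, hiso (ModuleCat.of A (LinearMap.ker f)) (ModuleCat.of A (Fin _ → A))
          (inferInstance : Module.Finite A (LinearMap.ker f)) (inferInstance : Module.Finite A (Fin _ → A)) e, hpi] at h
        refine ⟨(n : ℤ) - (Module.finrank A (LinearMap.ker f) : ℤ), ?_⟩
        rw [sub_smul, h, add_sub_cancel_left, KZero.clSub, dif_pos M.2]
  refine ⟨fun k l hkl => ?_, fun x => hgen x⟩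
  have := congrArg G hkl
  simpa [hG _ hP, P] using this

end Groth.Agent.K0PID
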